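import Groth.Agent.H27EtaleTwo.Trace
import Groth.Agent.H25FinCov.Trace
import Groth.Agent.H22Alg.PB.Push
import Groth.Agent.H7Lim.ModExact
import Groth.Agent.H13AlgSp.EtaleLocally
import Groth.Prelude.Def_Frob
import Groth.Prelude.Def_ClSub2

/-!
# Double étale covers in odd characteristic and `B¹`
-/

set_option autoImplicit false
set_option linter.style.haveILetI false
set_option backward.isDefEq.respectTransparency false
set_option synthInstance.maxHeartbeats 200000

noncomputable section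

universe u

open CategoryTheory CategoryTheory.Limits AlgebraicGeometry Opposite TopologicalSpace FrobSch

namespace Groth.Agent.H27EtaleTwo

variable (p : ℕ) [hp : Fact p.Prime] {X Y : Scheme.{u}} (f : Y ⟶ X) [IsFinite f]

/-- The direct image algebra. -/
abbrev dirAlg : RelSpec.QCAlg X := RelSpec.QCAlg.directImage f

theorem exists_good_two
    (h2 : FlatMod.IsFinLocFreeOfRank 2 ((Scheme.Modules.pushforward f).obj (Coh.structureModule Y)))
    (W : X.Opens) (x : X) (hx : x ∈ W) :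
    ∃ V, H25FinCov.IsGood (dirAlg f) V ∧ x ∈ V ∧ V ≤ W ∧
      Nonempty (Module.Basis (Fin 2) Γ(X, V) Γ((dirAlg f).toModule, V)) := by
  obtain ⟨U, hxU, ⟨e⟩⟩ := h2 x
  obtain ⟨V, hV, hxV, hle⟩ := exists_isAffineOpen_mem_and_subset (U := W ⊓ U) (x := x) ⟨hx, hxU⟩
  exact ⟨V, ⟨hV, H8Props.FinLocFree.free_finite_of_chart (dirAlg f).toModule e
      (le_trans hle inf_le_right)⟩, hxV, le_trans hle inf_le_left,
    H8Props.FinLocFree.exists_basis_of_chart (dirAlg f).toModule e (le_trans hle inf_le_right)⟩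

variable [hX : IsCharP X p] [hY : IsCharP Y p]

/-- Values of a map to the structure sheaf, as functions. -/
abbrev tv (τ : (dirAlg f).toModule ⟶ Coh.structureModule X) (V : X.Opens) (a : Γ(Y, f ⁻¹ᵁ V)) :
    Γ(X, V) := τ.app V a

theorem natCast_eq_zero_app' (V : X.Opens) : (p : Γ(X, V)) = 0 := natCast_eq_zero_app X p V

theorem trace_pow_char_good {τ : (dirAlg f).toModule ⟶ Coh.structureModule X}
    (hτ : FinCov.IsTrace (dirAlg f) τ) {V : X.Opens} (hV : H25FinCov.IsGood (dirAlg f) V)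
    (a : Γ(Y, f ⁻¹ᵁ V)) :
    tv f τ V (a ^ p) = tv f τ V a ^ p := by
  rcases subsingleton_or_nontrivial Γ(X, V) with h | h
  · exact Subsingleton.elim (α := Γ(X, V)) _ _
  haveI : CharP Γ(X, V) p :=
    (CharP.charP_iff_prime_eq_zero hp.out).2 (natCast_eq_zero_app' p V)
  letI := H25FinCov.secAlg (dirAlg f) V
  haveI := hV.2.1
  haveI := hV.2.2
  unfold tv
  rw [H25FinCov.app_eq_tr (dirAlg f) hτ hV, H25FinCov.app_eq_tr (dirAlg f) hτ hV]
  exact algebra_trace_pow_char (R := Γ(X, V)) p (S := (dirAlg f).presheaf.obj (op V)) a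

omit hp hX hY in
theorem trace_str_good {τ : (dirAlg f).toModule ⟶ Coh.structureModule X}
    (hτ : FinCov.IsTrace (dirAlg f) τ) {V : X.Opens} (hV : H25FinCov.IsGood (dirAlg f) V)
    (b : Module.Basis (Fin 2) Γ(X, V) Γ((dirAlg f).toModule, V)) (x : Γ(X, V)) :
    tv f τ V (f.app V x) = 2 • x := by
  letI := H25FinCov.secAlg (dirAlg f) V
  unfold tv
  rw [H25FinCov.app_eq_tr (dirAlg f) hτ hV]
  have h := Algebra.trace_algebraMap_of_basis
    (S := (dirAlg f).presheaf.obj (op V)) (R := Γ(X, V)) b x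
  rw [Fintype.card_fin] at h
  exact h

theorem main (hp2 : p ≠ 2) [IsReduced X] [AlgebraicGeometry.Etale f]
    (h2 : FlatMod.IsFinLocFreeOfRank 2 ((Scheme.Modules.pushforward f).obj (Coh.structureModule Y)))
    (hB : ∀ i : ℕ, Subsingleton (Coh.HH Y (cokernel (ClSub.unitToPush (frob Y p))) i)) (i : ℕ) :
    Subsingleton (Coh.HH X (cokernel (ClSub.unitToPush (frob X p))) i) := by
  haveI : IsReduced Y := H13AlgSp.isReduced_of_smooth_mor f
  haveI : IsAffineHom (frob X p) := ⟨fun _ hU => hU⟩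
  haveI : IsAffineHom (frob Y p) := ⟨fun _ hU => hU⟩
  have hA : FlatMod.IsFinLocFree (dirAlg f).toModule := fun x => by
    obtain ⟨U, hx, he⟩ := h2 x
    exact ⟨U, 2, hx, he⟩
  obtain ⟨τ, hτ⟩ := H25FinCov.exists_trace (dirAlg f) hA
  let OX := Coh.toAb (Coh.structureModule X)
  let fO := Coh.toAb ((Scheme.Modules.pushforward f).obj (Coh.structureModule Y))
  let φX0 := (H10Coh.shF X).map (ClSub.unitToPush (frob X p))
  let φX : OX ⟶ OX := φX0
  let uY := ClSub.unitToPush (frob Y p)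
  let φ0 := (H10Coh.shF X).map ((Scheme.Modules.pushforward f).map uY)
  let φ' : fO ⟶ fO := φ0
  let η : OX ⟶ fO := (H10Coh.shF X).map (ClSub.unitToPush f)
  let τ' : fO ⟶ OX := (H10Coh.shF X).map τ
  have e1 : η ≫ φ' = φX ≫ η := by
    refine CategoryTheory.Sheaf.hom_ext ?_
    ext U a
    let a' : Γ(X, U.unop) := a
    exact (map_pow (f.app U.unop).hom a' p).symm
  have e2 : φ' ≫ τ' = τ' ≫ φX := by
    refine CategoryTheory.Sheaf.hom_ext ?_
    ext U a
    obtain ⟨U⟩ := U
    let a' : Γ(Y, f ⁻¹ᵁ U) := a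
    let b : Γ((dirAlg f).toModule, U) := (a' ^ p : Γ(Y, f ⁻¹ᵁ U))
    change tv f τ U (a' ^ p) = tv f τ U a' ^ p
    refine H25FinCov.ext_locally (Coh.structureModule X) fun x hx => ?_
    obtain ⟨V, hV, hxV, hle, -⟩ := exists_good_two f h2 U x hx
    refine ⟨V, hle, hxV, ?_⟩
    refine (H17.PrinOmega.app_res τ hle b).symm.trans ?_
    let r : Γ(Y, f ⁻¹ᵁ U) →+* Γ(Y, f ⁻¹ᵁ V) :=
      (Y.presheaf.map (homOfLE (f.preimage_mono hle)).op).hom
    let s : Γ(X, U) →+* Γ(X, V) := (X.presheaf.map (homOfLE hle).op).hom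
    change tv f τ V (r (a' ^ p)) = s (tv f τ U a' ^ p)
    rw [map_pow, map_pow, trace_pow_char_good p f hτ hV]
    exact congrArg (fun z : Γ(X, V) => z ^ p) (H17.PrinOmega.app_res τ hle a')
  have e3 : η ≫ τ' = 2 • 𝟙 OX := by
    refine CategoryTheory.Sheaf.hom_ext ?_
    ext U a
    obtain ⟨U⟩ := U
    let a' : Γ(X, U) := a
    let b : Γ((dirAlg f).toModule, U) := (f.app U a' : Γ(Y, f ⁻¹ᵁ U))
    rw [two_nsmul]
    change τ.app U b = (a' + a' : Γ(X, U))
    refine H25FinCov.ext_locally (Coh.structureModule X) fun x hx => ?_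
    obtain ⟨V, hV, hxV, hle, ⟨bb⟩⟩ := exists_good_two f h2 U x hx
    refine ⟨V, hle, hxV, ?_⟩
    refine (H17.PrinOmega.app_res τ hle b).symm.trans ?_
    let s : Γ(X, U) →+* Γ(X, V) := (X.presheaf.map (homOfLE hle).op).hom
    change tv f τ V ((Y.presheaf.map (homOfLE (f.preimage_mono hle)).op).hom (f.app U a')) = s (a' + a')
    have hn : (Y.presheaf.map (homOfLE (f.preimage_mono hle)).op).hom (f.app U a') = f.app V (s a') :=
      (congr($(f.naturality (homOfLE hle).op) a')).symm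
    rw [hn, trace_str_good f hτ hV bb, two_nsmul, map_add]
  have e4 : (p : ℕ) • 𝟙 OX = 0 := by
    refine CategoryTheory.Sheaf.hom_ext ?_
    ext U a
    let ev : (OX ⟶ OX) →+ (OX.obj.obj U →+ OX.obj.obj U) :=
      { toFun := fun ψ => (ψ.hom.app U).hom, map_zero' := rfl, map_add' := fun _ _ => rfl }
    change (ev (p • 𝟙 OX)) a = _
    rw [map_nsmul]
    let a' : Γ(X, U.unop) := a
    change p • a' = (0 : Γ(X, U.unop))
    exact (nsmul_eq_mul p a').trans (by rw [natCast_eq_zero_app' p U.unop, zero_mul])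
  obtain ⟨c, hc⟩ : ∃ c : ℕ, 2 * c = p + 1 :=
    ⟨(p + 1) / 2, Nat.mul_div_cancel'
      (by obtain ⟨m, hm⟩ := (hp.out.eq_two_or_odd').resolve_left hp2; omega)⟩
  let r : fO ⟶ OX := c • τ'
  have e5 : η ≫ r = 𝟙 OX := by
    rw [Preadditive.comp_nsmul, e3, smul_smul, Nat.mul_comm, hc, add_smul, e4, zero_add, one_smul]
  have e6 : φ' ≫ r = r ≫ φX := by
    rw [Preadditive.comp_nsmul, e2, Preadditive.nsmul_comp]
  let α : cokernel φX ⟶ cokernel φ' := cokernel.map φX φ' η η e1.symm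
  let β : cokernel φ' ⟶ cokernel φX := cokernel.map φ' φX r r e6
  have hαβ : α ≫ β = 𝟙 _ := by
    apply coequalizer.hom_ext
    simp [α, β, reassoc_of% e5]
  -- the cokernel upstairs
  haveI hm : Mono (ClSub.unitToPush (frob Y p)) := by
    apply (H10Coh.shF Y).mono_of_mono_map
    apply (sheafToPresheaf _ _).mono_of_mono_map
    refine @NatTrans.mono_of_mono_app _ _ _ _ _ _ _ fun V => ?_
    rw [AddCommGrpCat.mono_iff_injective]
    refine fun a b hab => ?_
    let a' : Γ(Y, V.unop) := a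
    let b' : Γ(Y, V.unop) := b
    have hab' : a' ^ p = b' ^ p := hab
    show a' = b'
    rcases subsingleton_or_nontrivial Γ(Y, V.unop) with h | h
    · exact Subsingleton.elim _ _
    haveI : CharP Γ(Y, V.unop) p :=
      (CharP.charP_iff_prime_eq_zero hp.out).2 (natCast_eq_zero_app Y p V.unop)
    haveI : ExpChar Γ(Y, V.unop) p := .prime hp.out
    exact frobenius_inj Γ(Y, V.unop) p hab'
  let S : ShortComplex Y.Modules :=
    ShortComplex.mk (ClSub.unitToPush (frob Y p)) (cokernel.π _) (cokernel.condition _)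
  have hS : S.ShortExact :=
    { exact := ShortComplex.exact_of_g_is_cokernel _ (cokernelIsCokernel _)
      mono_f := hm
      epi_g := inferInstanceAs (Epi (cokernel.π _)) }
  haveI hO : (Coh.structureModule Y).IsQuasicoherent := H10Coh.isQuasicoherent_unit
  haveI : ((Scheme.Modules.pushforward (frob Y p)).obj (Coh.structureModule Y)).IsQuasicoherent :=
    H10Coh.isQuasicoherent_pushforward_of_isAffineHom (frob Y p) _
  haveI : S.X₃.IsQuasicoherent :=
    H7Lim.ModExact.isQCoh_cokernel (ClSub.unitToPush (frob Y p)) hO inferInstance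
  have hfS := H22Alg.RegSheaf.shortExact_toAb
    (H22Alg.PB.shortExact_push (π := f) hS (H10Coh.isZero_rpushAb_of_isAffineHom f _ 0))
  let e : cokernel φ' ≅ Coh.toAb ((Scheme.Modules.pushforward f).obj S.X₃) :=
    (cokernelIsCokernel φ').coconePointUniqueUpToIso hfS.gIsCokernel
  haveI hsub : Subsingleton (Coh.HH X ((Scheme.Modules.pushforward f).obj S.X₃) i) :=
    haveI := hB i
    ((H10Coh.HHEquiv _ i).trans ((H10Coh.affineLerayEquiv f S.X₃ i ⊤).trans
      (H10Coh.HHEquiv S.X₃ i).symm)).toEquiv.subsingleton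
  let e' : Coh.toAb (cokernel (ClSub.unitToPush (frob X p))) ≅ cokernel φX :=
    PreservesCokernel.iso (H10Coh.shF X) (ClSub.unitToPush (frob X p))
  have h0 : e'.hom ≫ α ≫ e.hom ≫ e.inv ≫ β ≫ e'.inv = 𝟙 _ := by
    rw [e.hom_inv_id_assoc, reassoc_of% hαβ, e'.hom_inv_id]
  refine ⟨fun x y => ?_⟩
  have h1 : Function.Injective (Sheaf.H.map (e'.hom ≫ α ≫ e.hom) i) := fun x y h => by
    have h' := congrArg (Sheaf.H.map (e.inv ≫ β ≫ e'.inv) i) h
    rwa [← Sheaf.H.map_comp_apply, ← Sheaf.H.map_comp_apply,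
      show (e'.hom ≫ α ≫ e.hom) ≫ e.inv ≫ β ≫ e'.inv = 𝟙 _ by
        simpa only [Category.assoc] using h0,
      Sheaf.H.map_id_apply, Sheaf.H.map_id_apply] at h'
  exact h1 (Subsingleton.elim (α := Coh.HH X ((Scheme.Modules.pushforward f).obj S.X₃) i) _ _)

end Groth.Agent.H27EtaleTwo
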