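import Mathlib

/-!
# The trace of a `p`-th power in characteristic `p`
-/

set_option autoImplicit false
universe u

open Polynomial Matrix

namespace Groth.Agent.H27EtaleTwo

variable {R : Type u} [CommRing R] (p : ℕ) [Fact p.Prime] [CharP R p]
  {n : Type*} [DecidableEq n] [Fintype n]

theorem charpoly_pow_char (M : Matrix n n R) :
    (M ^ p).charpoly = M.charpoly.map (frobenius R p) := by
  haveI : ExpChar R p := .prime Fact.out
  cases isEmpty_or_nonempty n
  · rw [Matrix.charpoly, Matrix.charpoly, det_isEmpty, det_isEmpty, Polynomial.map_one]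
  refine Polynomial.expand_injective (Fact.out : p.Prime).pos ?_
  rw [← Polynomial.map_expand, Polynomial.map_frobenius_expand, Matrix.charpoly, Matrix.charpoly,
    AlgHom.map_det, ← coe_detMonoidHom, ← (detMonoidHom : Matrix n n R[X] →* R[X]).map_pow]
  apply congr_arg det
  refine matPolyEquiv.injective ?_
  rw [map_pow, matPolyEquiv_charmatrix, sub_pow_char_of_commute, ← C_pow]
  · exact (id (matPolyEquiv_eq_X_pow_sub_C p M) :)
  · exact (C M).commute_X

theorem trace_pow_char' (M : Matrix n n R) : trace (M ^ p) = trace M ^ p := by
  rcases subsingleton_or_nontrivial R with hR | hR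
  · exact Subsingleton.elim _ _
  cases isEmpty_or_nonempty n
  · simp [Matrix.trace, zero_pow (Fact.out : p.Prime).ne_zero]
  rw [Matrix.trace_eq_neg_charpoly_coeff, Matrix.trace_eq_neg_charpoly_coeff,
    charpoly_pow_char p, Polynomial.coeff_map, frobenius_def]
  haveI : ExpChar R p := .prime Fact.out
  rw [← frobenius_def, ← frobenius_def, map_neg]

theorem algebra_trace_pow_char {S : Type*} [CommRing S] [Algebra R S] [Module.Free R S]
    [Module.Finite R S] (a : S) : Algebra.trace R S (a ^ p) = Algebra.trace R S a ^ p := by
  classical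
  let b := Module.Free.chooseBasis R S
  rw [Algebra.trace_eq_matrix_trace b, Algebra.trace_eq_matrix_trace b, map_pow, trace_pow_char']

end Groth.Agent.H27EtaleTwo
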